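import Groth.Agent.WEtLib.OverField
import Groth.Agent.S0426
import Groth.Prelude.Def_EtAlgD
import Mathlib

/-! The maximal weakly etale subalgebra: elements killed by separable polynomials. -/

set_option autoImplicit false
set_option linter.style.haveILetI false
universe u

open scoped TensorProduct
open Polynomial

namespace Groth.Agent.WEtMax7

variable {K : Type u} [Field K] {A : Type u} [CommRing A] [Algebra K A]

theorem weaklyEtale_of_algEquiv {B B' : Type u} [CommRing B] [CommRing B'] [Algebra K B] [Algebra K B']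
    (e : B ≃ₐ[K] B') [Algebra.WeaklyEtale K B] : Algebra.WeaklyEtale K B' :=
  S0736.result K B' (Hensel.isIndEtale_of_algEquiv WEtLib.isIndEtale_of_weaklyEtale e)

theorem weaklyEtale_range {B : Type u} [CommRing B] [Algebra K B] [Algebra.WeaklyEtale K B] (φ : B →ₐ[K] A) :
    Algebra.WeaklyEtale K φ.range := by
  haveI := WEtLib.weaklyEtale_quotient (K := K) (RingHom.ker φ.rangeRestrict)
  exact weaklyEtale_of_algEquiv (Ideal.quotientKerAlgEquivOfSurjective φ.rangeRestrict_surjective)

theorem weaklyEtale_sup (S T : Subalgebra K A) [Algebra.WeaklyEtale K S] [Algebra.WeaklyEtale K T] :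
    Algebra.WeaklyEtale K ↑(S ⊔ T) := by
  haveI : Algebra.WeaklyEtale K (S ⊗[K] T) := Algebra.WeaklyEtale.trans K S (S ⊗[K] T)
  have h : (Algebra.TensorProduct.productMap S.val T.val).range = S ⊔ T := by
    rw [Algebra.TensorProduct.productMap_range, Subalgebra.range_val, Subalgebra.range_val]
  rw [← h]
  exact weaklyEtale_range _

theorem weaklyEtale_bot : Algebra.WeaklyEtale K (⊥ : Subalgebra K A) := by
  rw [← Algebra.range_ofId]
  exact weaklyEtale_range _

theorem directedOn : DirectedOn (· ≤ ·) {S : Subalgebra K A | Algebra.WeaklyEtale K S} :=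
  fun S hS T hT => ⟨S ⊔ T,
    (have : Algebra.WeaklyEtale K S := hS; have : Algebra.WeaklyEtale K T := hT; weaklyEtale_sup S T),
    le_sup_left, le_sup_right⟩

theorem mem_max_iff {x : A} :
    x ∈ EtAlgD.maxWeaklyEtale K A ↔ ∃ S : Subalgebra K A, Algebra.WeaklyEtale K S ∧ x ∈ S := by
  rw [EtAlgD.maxWeaklyEtale, sSup_eq_iSup']
  haveI : Nonempty {S : Subalgebra K A | Algebra.WeaklyEtale K S} := ⟨⟨⊥, weaklyEtale_bot⟩⟩
  rw [← SetLike.mem_coe, Subalgebra.coe_iSup_of_directed (directedOn_iff_directed.1 directedOn), Set.mem_iUnion]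
  exact ⟨fun ⟨⟨S, hS⟩, h⟩ => ⟨S, hS, h⟩, fun ⟨S, hS, h⟩ => ⟨⟨S, hS⟩, h⟩⟩

theorem le_max (S : Subalgebra K A) (hS : Algebra.WeaklyEtale K S) : S ≤ EtAlgD.maxWeaklyEtale K A :=
  le_sSup hS

theorem exists_le_of_fg {T : Subalgebra K A} (hT : T.FG) (hle : T ≤ EtAlgD.maxWeaklyEtale K A) :
    ∃ S : Subalgebra K A, Algebra.WeaklyEtale K S ∧ T ≤ S := by
  obtain ⟨s, rfl⟩ := hT
  classical
  induction s using Finset.induction_on with
  | empty => exact ⟨⊥, weaklyEtale_bot, by simp⟩
  | insert a s _ ih =>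
    obtain ⟨S, hS, hsS⟩ := ih (le_trans (Algebra.adjoin_mono (by simp)) hle)
    obtain ⟨S', hS', haS'⟩ := mem_max_iff.1 (hle (Algebra.subset_adjoin (by simp : a ∈ (↑(insert a s) : Set A))))
    refine ⟨S ⊔ S', weaklyEtale_sup S S', Algebra.adjoin_le ?_⟩
    rw [Finset.coe_insert, Set.insert_subset_iff]
    exact ⟨(le_sup_right : S' ≤ S ⊔ S') haS', fun b hb => (le_sup_left : S ≤ S ⊔ S') (hsS (Algebra.subset_adjoin hb))⟩

theorem weaklyEtale_max : Algebra.WeaklyEtale K (EtAlgD.maxWeaklyEtale K A) := by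
  refine S0736.result K _ (IndEtLib.isIndEtale_of_factor fun P _ _ _ φ => ?_)
  let M := EtAlgD.maxWeaklyEtale K A
  let T := (M.val.comp φ).range
  have hT : T.FG := by
    have : Algebra.FiniteType K T :=
      Algebra.FiniteType.of_surjective (M.val.comp φ).rangeRestrict (AlgHom.rangeRestrict_surjective _)
    exact T.fg_iff_finiteType.2 this
  have hle : T ≤ M := by
    rintro _ ⟨p, rfl⟩
    exact (φ p).2
  obtain ⟨S, hS, hTS⟩ := exists_le_of_fg hT hle
  let T' : Subalgebra K S := T.comap S.val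
  have hmap : T'.map S.val = T := le_antisymm (by rintro _ ⟨y, hy, rfl⟩; exact hy)
    fun y hy => ⟨⟨y, hTS hy⟩, hy, rfl⟩
  have hfg : T'.FG := Subalgebra.fg_of_fg_map T' S.val Subtype.val_injective (hmap.symm ▸ hT)
  haveI := WEtLib.etale_subalgebra_of_fg T' hfg
  refine ⟨T', inferInstance, inferInstance, inferInstance,
    ((Subalgebra.inclusion hTS).comp (M.val.comp φ).rangeRestrict).codRestrict T' fun p => ?_,
    ((S.val.comp T'.val).codRestrict M fun y => hle (show S.val y.1 ∈ T from y.2)), rfl⟩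
  exact ⟨p, rfl⟩

/-- `x` is killed by a separable polynomial. -/
def HasSep (x : A) : Prop := ∃ f : K[X], f.Separable ∧ aeval x f = 0

theorem hasSep_of_weaklyEtale {B : Type u} [CommRing B] [Algebra K B] [Algebra.WeaklyEtale K B] (x : B) :
    HasSep (K := K) x := by
  classical
  haveI : IsReduced B := WEtLib.isReduced_of_forall_exists (WEtLib.exists_mul_eq (K := K))
  have hint := WEtLib.isIntegral_of_weaklyEtale (K := K) x
  set f := minpoly K x
  have hf0 : f ≠ 0 := minpoly.ne_zero hint
  have haev : aeval x f = 0 := minpoly.aeval K x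
  -- no repeated irreducible factor
  have hsq : ∀ g h : K[X], Irreducible g → f = g * h → ¬ g ∣ h := by
    rintro g h hg hfgh ⟨h', rfl⟩
    have h0 : g * h' ≠ 0 := fun h0 => hf0 (by rw [hfgh, h0, mul_zero])
    have hn : aeval x (g * h') = 0 := by
      refine eq_zero_of_pow_eq_zero (n := 2) ?_
      rw [← map_pow, show (g * h') ^ 2 = f * h' by rw [hfgh]; ring, map_mul, haev, zero_mul]
    have hd := minpoly.dvd K x hn
    have hdeg := natDegree_le_of_dvd hd h0
    rw [show minpoly K x = f from rfl, hfgh, natDegree_mul hg.ne_zero h0] at hdeg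
    exact absurd hdeg (by have := hg.natDegree_pos; omega)
  refine ⟨f, ?_, haev⟩
  rw [Polynomial.separable_def]
  refine isCoprime_of_irreducible_dvd (fun h => hf0 h.1) fun g hg hgf hgf' => ?_
  obtain ⟨h, hfgh⟩ := hgf
  have hgsep : g.Separable := by
    have hnu : ¬ IsUnit (aeval x g) := fun hu => by
      have hh : aeval x h = 0 := by
        refine hu.mul_right_eq_zero.1 ?_
        rw [← map_mul, ← hfgh, haev]
      have h0 : h ≠ 0 := fun h0 => hf0 (by rw [hfgh, h0, mul_zero])
      have hdeg := natDegree_le_of_dvd (minpoly.dvd K x hh) h0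
      rw [show minpoly K x = f from rfl, hfgh, natDegree_mul hg.ne_zero h0] at hdeg
      exact absurd hdeg (by have := hg.natDegree_pos; omega)
    obtain ⟨P, hP, hxP⟩ := exists_max_ideal_of_mem_nonunits hnu
    haveI := hP.isPrime
    have hroot : aeval (Ideal.Quotient.mk P x) g = 0 := by
      rw [show Ideal.Quotient.mk P x = Ideal.Quotient.mkₐ K P x from rfl, aeval_algHom_apply]
      exact Ideal.Quotient.eq_zero_iff_mem.2 hxP
    have hs : IsSeparable K (Ideal.Quotient.mk P x) := WEtLib.isSeparable_mk P x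
    letI := Ideal.Quotient.field P
    have hassoc : Associated (minpoly K (Ideal.Quotient.mk P x)) g :=
      (minpoly.irreducible hs.isIntegral).associated_of_dvd hg (minpoly.dvd K _ hroot)
    exact Separable.of_dvd hs hassoc.symm.dvd
  rw [hfgh, derivative_mul] at hgf'
  rcases hg.prime.dvd_or_dvd ((dvd_add_left (dvd_mul_right g _)).1 hgf') with h1 | h1
  · exact hg.not_isUnit (((separable_def g).1 hgsep).isUnit_of_dvd' dvd_rfl h1)
  · exact hsq g h hg hfgh h1

theorem mem_max_of_hasSep {x : A} (hx : HasSep (K := K) x) : x ∈ EtAlgD.maxWeaklyEtale K A := by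
  obtain ⟨f, hf, hxf⟩ := hx
  classical
  have hm : (normalize f).Monic := Polynomial.monic_normalize hf.ne_zero
  have hsep : (normalize f).Separable := hf.of_dvd (normalize_associated f).dvd
  obtain ⟨a, b, hab⟩ := hsep
  let P : StandardEtalePair K :=
    { f := normalize f, monic_f := hm, g := 1, cond := ⟨b, a, 1, by rw [pow_one, ← hab]; ring⟩ }
  haveI : Algebra.WeaklyEtale K P.Ring := inferInstance
  have hxP : P.HasMap x := ⟨by
    obtain ⟨c, hc⟩ := (normalize_associated f).symm.dvd
    show aeval x (normalize f) = 0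
    rw [hc, map_mul, hxf, zero_mul], by simp [P]⟩
  exact le_max _ (weaklyEtale_range (P.lift x hxP)) ⟨P.X, StandardEtalePair.lift_X P x hxP⟩

theorem hasSep_map {B : Type u} [CommRing B] [Algebra K B] {x : A} (hx : HasSep (K := K) x) (φ : A →ₐ[K] B) :
    HasSep (K := K) (φ x) := by
  obtain ⟨f, hf, hxf⟩ := hx
  exact ⟨f, hf, by rw [aeval_algHom_apply, hxf, map_zero]⟩

theorem mem_max_iff_hasSep {x : A} : x ∈ EtAlgD.maxWeaklyEtale K A ↔ HasSep (K := K) x := by
  refine ⟨fun hx => ?_, mem_max_of_hasSep⟩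
  obtain ⟨S, hS, hxS⟩ := mem_max_iff.1 hx
  exact hasSep_map (hasSep_of_weaklyEtale (⟨x, hxS⟩ : S)) S.val

end Groth.Agent.WEtMax7
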