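import Groth.Agent.WEtMax7.Basic
import Groth.Agent.SepIdemLib.Basic

/-! The maximal weakly etale subalgebra commutes with field extensions. -/

set_option autoImplicit false
set_option linter.style.haveILetI false
universe u

open scoped TensorProduct
open Polynomial

namespace Groth.Agent.WEtMax7

variable (K : Type u) [Field K] (A : Type u) [CommRing A] [Algebra K A]

/-- `L ⊗ max` inside `L ⊗ A`. -/
noncomputable def extMax (L : Type u) [Field L] [Algebra K L] : Subalgebra L (L ⊗[K] A) :=
  (Algebra.TensorProduct.map (AlgHom.id L L) (EtAlgD.maxWeaklyEtale K A).val).range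

variable {K A}

theorem tmul_mem_extMax {L : Type u} [Field L] [Algebra K L] (c : L) {a : A} (ha : a ∈ EtAlgD.maxWeaklyEtale K A) :
    c ⊗ₜ[K] a ∈ extMax K A L :=
  ⟨c ⊗ₜ[K] ⟨a, ha⟩, rfl⟩

theorem extMax_le_iff {L : Type u} [Field L] [Algebra K L] {S : Subalgebra L (L ⊗[K] A)} :
    extMax K A L ≤ S ↔ ∀ a ∈ EtAlgD.maxWeaklyEtale K A, (1 : L) ⊗ₜ[K] a ∈ S := by
  refine ⟨fun h a ha => h (tmul_mem_extMax 1 ha), fun h => ?_⟩
  rintro _ ⟨t, rfl⟩
  induction t using TensorProduct.induction_on with
  | zero => exact zero_mem S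
  | add x y hx hy => rw [map_add]; exact add_mem hx hy
  | tmul c a =>
    show c ⊗ₜ[K] (a : A) ∈ S
    have := S.smul_mem (h a a.2) c
    rwa [TensorProduct.smul_tmul', smul_eq_mul, mul_one] at this

theorem map_mem_extMax {L L' : Type u} [Field L] [Algebra K L] [Field L'] [Algebra K L'] (f : L →ₐ[K] L')
    {z : L ⊗[K] A} (hz : z ∈ extMax K A L) : Algebra.TensorProduct.map f (AlgHom.id K A) z ∈ extMax K A L' := by
  obtain ⟨t, rfl⟩ := hz
  induction t using TensorProduct.induction_on with
  | zero => rw [map_zero, map_zero]; exact zero_mem _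
  | add x y hx hy => rw [map_add, map_add]; exact add_mem hx hy
  | tmul c a => exact tmul_mem_extMax _ a.2

theorem mem_extMax_of_map {L L' : Type u} [Field L] [Algebra K L] [Field L'] [Algebra K L'] (f : L →ₐ[K] L')
    {z : L ⊗[K] A} (hz : Algebra.TensorProduct.map f (AlgHom.id K A) z ∈ extMax K A L') : z ∈ extMax K A L := by
  let M := Subalgebra.toSubmodule (EtAlgD.maxWeaklyEtale K A)
  have hex : ∀ (F : Type u) [Field F] [Algebra K F], Function.Exact (M.subtype.lTensor F) (M.mkQ.lTensor F) :=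
    fun F _ _ => Module.Flat.lTensor_exact F (LinearMap.exact_subtype_mkQ M)
  have hq : M.mkQ.lTensor L z = 0 := by
    refine Module.Flat.rTensor_preserves_injective_linearMap (M := A ⧸ M) f.toLinearMap f.injective ?_
    rw [map_zero]
    have h0 : M.mkQ.lTensor L' (Algebra.TensorProduct.map f (AlgHom.id K A) z) = 0 := by
      obtain ⟨t, ht⟩ := hz
      rw [← ht]
      exact (hex L' _).2 ⟨t, rfl⟩
    rw [← h0]
    show (f.toLinearMap.rTensor (A ⧸ M) ∘ₗ M.mkQ.lTensor L) z = (M.mkQ.lTensor L' ∘ₗ f.toLinearMap.rTensor A) z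
    rw [LinearMap.rTensor_comp_lTensor, LinearMap.lTensor_comp_rTensor]
  obtain ⟨t, rfl⟩ := (hex L z).1 hq
  exact ⟨t, rfl⟩

theorem mem_max_of_includeRight {F : Type u} [Field F] [Algebra K F] {a : A}
    (h : (1 : F) ⊗ₜ[K] a ∈ EtAlgD.maxWeaklyEtale K (F ⊗[K] A)) : a ∈ EtAlgD.maxWeaklyEtale K A := by
  obtain ⟨f, hf, hfa⟩ := mem_max_iff_hasSep.1 h
  refine mem_max_of_hasSep ⟨f, hf, ?_⟩
  have hinj : Function.Injective (Algebra.TensorProduct.includeRight : A →ₐ[K] F ⊗[K] A) :=
    Algebra.TensorProduct.includeRight_injective (algebraMap K F).injective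
  exact hinj (by rw [map_zero, ← aeval_algHom_apply]; exact hfa)

theorem idempotent_mem_max {B : Type u} [CommRing B] [Algebra K B] {e : B} (he : IsIdempotentElem e) :
    e ∈ EtAlgD.maxWeaklyEtale K B := by
  refine mem_max_of_hasSep ⟨X * (X - C 1), ?_, ?_⟩
  · refine Separable.mul separable_X separable_X_sub_C ⟨1, -1, ?_⟩
    rw [map_one]; ring
  · rw [map_mul, map_sub, aeval_X, aeval_C, map_one, mul_sub, mul_one, he.eq, sub_self]

/-- Idempotents over a finite Galois extension. -/
theorem idempotent_mem_extMax_galois (F : Type u) [Field F] [Algebra K F] [FiniteDimensional K F] [IsGalois K F]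
    {e : F ⊗[K] A} (he : IsIdempotentElem e) : e ∈ extMax K A F := by
  classical
  let ι := Module.Basis.ofVectorSpaceIndex K F
  let b : Module.Basis ι K F := Module.Basis.ofVectorSpace K F
  let d := (Algebra.traceForm K F).dualBasis (traceForm_nondegenerate K F) b
  let coef := TensorProduct.equivFinsuppOfBasisLeft (N := A) b
  let a : ι → A := fun i => coef e i
  have hdec : e = ∑ i, b i ⊗ₜ[K] a i := by
    conv_lhs => rw [← coef.symm_apply_apply e]
    rw [TensorProduct.equivFinsuppOfBasisLeft_symm_apply, Finsupp.sum_fintype]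
    simp
  have hkey : ∀ j, (1 : F) ⊗ₜ[K] a j =
      ∑ σ : F ≃ₐ[K] F, (σ (d j) ⊗ₜ[K] (1 : A)) * Algebra.TensorProduct.map σ.toAlgHom (AlgHom.id K A) e := by
    intro j
    simp only [hdec, map_sum, Algebra.TensorProduct.map_tmul, Finset.mul_sum, Algebra.TensorProduct.tmul_mul_tmul,
      one_mul, AlgHom.id_apply]
    rw [Finset.sum_comm, Finset.sum_eq_single j]
    · rw [← TensorProduct.sum_tmul]
      congr 1
      simp only [AlgEquiv.coe_toAlgHom, ← map_mul]
      rw [← trace_eq_sum_automorphisms, ← Algebra.traceForm_apply, LinearMap.BilinForm.apply_dualBasis_left,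
        if_pos rfl, map_one]
    · intro i _ hne
      rw [← TensorProduct.sum_tmul]
      simp only [AlgEquiv.coe_toAlgHom, ← map_mul]
      rw [← trace_eq_sum_automorphisms, ← Algebra.traceForm_apply, LinearMap.BilinForm.apply_dualBasis_left,
        if_neg hne, map_zero, TensorProduct.zero_tmul]
    · exact fun h => absurd (Finset.mem_univ j) h
  rw [hdec]
  refine sum_mem fun j _ => tmul_mem_extMax _ (mem_max_of_includeRight (F := F) ?_)
  rw [hkey j]
  refine sum_mem fun σ _ => mul_mem (mem_max_of_hasSep ?_) (idempotent_mem_max (he.map _))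
  exact hasSep_map (x := σ (d j)) ⟨minpoly K (σ (d j)), Algebra.IsSeparable.isSeparable K _, minpoly.aeval K _⟩
    (Algebra.TensorProduct.includeLeft : F →ₐ[K] F ⊗[K] A)

/-- Idempotents over an algebraic closure. -/
theorem idempotent_mem_extMax_algebraicClosure {e : AlgebraicClosure K ⊗[K] A} (he : IsIdempotentElem e) :
    e ∈ extMax K A (AlgebraicClosure K) := by
  classical
  rcases subsingleton_or_nontrivial A with hA | hA
  · have h0 : ∀ t : AlgebraicClosure K ⊗[K] A, t = 0 := fun t => by
      induction t using TensorProduct.induction_on with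
      | zero => rfl
      | add x y hx hy => rw [hx, hy, add_zero]
      | tmul c a => rw [Subsingleton.elim a 0, TensorProduct.tmul_zero]
    rw [h0 e]; exact zero_mem _
  let Kb := AlgebraicClosure K
  let Ks := separableClosure K Kb
  let q := ringExpChar K
  haveI : ExpChar Kb q := expChar_of_injective_ringHom (algebraMap K Kb).injective q
  haveI : Nontrivial (Kb ⊗[K] A) :=
    (Algebra.TensorProduct.includeRight_injective (B := A) (algebraMap K Kb).injective).nontrivial
  haveI : ExpChar (Kb ⊗[K] A) q := expChar_of_injective_ringHom (algebraMap K (Kb ⊗[K] A)).injective q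
  haveI : ExpChar Ks q := expChar_of_injective_ringHom (algebraMap K Ks).injective q
  let j : Ks ⊗[K] A →ₐ[K] Kb ⊗[K] A := Algebra.TensorProduct.map Ks.val (AlgHom.id K A)
  have hpow : ∀ t : Kb ⊗[K] A, ∃ n : ℕ, ∀ m, n ≤ m → t ^ q ^ m ∈ j.range := by
    intro t
    induction t using TensorProduct.induction_on with
    | zero =>
      refine ⟨0, fun m _ => ?_⟩
      rw [zero_pow (pow_ne_zero m (expChar_pos Kb q).ne')]
      exact zero_mem _
    | add x y hx hy =>
      obtain ⟨n, hn⟩ := hx
      obtain ⟨n', hn'⟩ := hy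
      refine ⟨max n n', fun m hm => ?_⟩
      rw [add_pow_expChar_pow]
      exact add_mem (hn m (le_trans (le_max_left _ _) hm)) (hn' m (le_trans (le_max_right _ _) hm))
    | tmul c a =>
      obtain ⟨n, y, hy⟩ := IsPurelyInseparable.pow_mem Ks q c
      refine ⟨n, fun m hm => ?_⟩
      obtain ⟨l, rfl⟩ := Nat.exists_eq_add_of_le hm
      refine ⟨(y ^ q ^ l) ⊗ₜ[K] (a ^ q ^ (n + l)), ?_⟩
      show (algebraMap Ks Kb (y ^ q ^ l)) ⊗ₜ[K] (a ^ q ^ (n + l)) = _
      rw [map_pow, hy, ← pow_mul, ← pow_add, Algebra.TensorProduct.tmul_pow]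
  obtain ⟨n, hn⟩ := hpow e
  obtain ⟨e₁, he₁⟩ := hn n le_rfl
  rw [he.pow_eq (pow_ne_zero n (expChar_pos Kb q).ne')] at he₁
  rw [← he₁]
  refine map_mem_extMax Ks.val ?_
  obtain ⟨S, hS⟩ := TensorProduct.exists_finset e₁
  let F := FiniteGaloisIntermediateField.adjoin K ((S.image Prod.fst : Finset Ks) : Set Ks)
  have hF : ∀ p ∈ S, p.1 ∈ F.toIntermediateField := fun p hp =>
    FiniteGaloisIntermediateField.subset_adjoin K _ (Finset.mem_coe.2 (Finset.mem_image_of_mem _ hp))
  let e₂ : F ⊗[K] A := ∑ p ∈ S.attach, (⟨p.1.1, hF p.1 p.2⟩ : F) ⊗ₜ[K] p.1.2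
  have he₂ : Algebra.TensorProduct.map F.toIntermediateField.val (AlgHom.id K A) e₂ = e₁ := by
    rw [map_sum, hS, ← Finset.sum_attach S]
    exact Finset.sum_congr rfl fun p _ => rfl
  rw [← he₂]
  refine map_mem_extMax _ (idempotent_mem_extMax_galois F ?_)
  have hinj : Function.Injective
      (j.comp (Algebra.TensorProduct.map F.toIntermediateField.val (AlgHom.id K A))) :=
    (Module.Flat.rTensor_preserves_injective_linearMap (M := A) Ks.val.toLinearMap Subtype.val_injective).comp
      (Module.Flat.rTensor_preserves_injective_linearMap (M := A) F.toIntermediateField.val.toLinearMap Subtype.val_injective)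
  refine hinj ?_
  rw [map_mul, AlgHom.comp_apply, he₂]
  show j e₁ * j e₁ = j e₁
  rw [show j e₁ = e from he₁, he.eq]

theorem mem_extMax_of_hasSep {L : Type u} [Field L] [Algebra K L] {z : L ⊗[K] A}
    (hz : HasSep (K := L) z) : z ∈ extMax K A L := by
  obtain ⟨f, hf, hzf⟩ := hz
  let Ω := AlgebraicClosure L
  let Kb := AlgebraicClosure K
  letI : Algebra Kb Ω := (IsAlgClosed.lift : Kb →ₐ[K] Ω).toRingHom.toAlgebra
  haveI : IsScalarTower K Kb Ω := IsScalarTower.of_algebraMap_eq fun x =>
    ((IsAlgClosed.lift : Kb →ₐ[K] Ω).commutes x).symm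
  refine mem_extMax_of_map (IsScalarTower.toAlgHom K L Ω) ?_
  set z' := Algebra.TensorProduct.map (IsScalarTower.toAlgHom K L Ω) (AlgHom.id K A) z
  let ψ : L ⊗[K] A →ₐ[L] Ω ⊗[K] A := Algebra.TensorProduct.map (Algebra.ofId L Ω) (AlgHom.id K A)
  have hψ : z' = ψ z := rfl
  let T := Ω ⊗[Kb] (Kb ⊗[K] A)
  let E : T ≃ₐ[Ω] Ω ⊗[K] A := Algebra.TensorProduct.cancelBaseChange K Kb Ω Ω A
  have hsep : IsSeparable Ω (E.symm z') := by
    refine Separable.of_dvd (hf.map (f := algebraMap L Ω)) (minpoly.dvd Ω _ ?_)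
    rw [show E.symm z' = E.symm.toAlgHom z' from rfl, aeval_algHom_apply, aeval_map_algebraMap, hψ,
      aeval_algHom_apply, hzf, map_zero, map_zero]
  have hmem := SepIdemLib.mem_idemSpan_of_isSeparable hsep
  have key : ∀ t ∈ SepIdemLib.idemTensor Kb Ω (Kb ⊗[K] A), E t ∈ extMax K A Ω := by
    intro t h
    induction h using Submodule.span_induction with
    | mem x hx =>
      obtain ⟨c, g, -, hg, rfl⟩ := hx
      rw [show (c ⊗ₜ[Kb] g : T) = c • ((1 : Ω) ⊗ₜ[Kb] g) by rw [TensorProduct.smul_tmul', smul_eq_mul, mul_one],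
        map_smul]
      refine Subalgebra.smul_mem _ ?_ c
      have heq : ∀ g : Kb ⊗[K] A,
          E ((1 : Ω) ⊗ₜ[Kb] g) = Algebra.TensorProduct.map (IsScalarTower.toAlgHom K Kb Ω) (AlgHom.id K A) g := by
        intro g
        induction g using TensorProduct.induction_on with
        | zero => simp
        | add x y hx hy => simp [TensorProduct.tmul_add, hx, hy]
        | tmul d a =>
          rw [Algebra.TensorProduct.cancelBaseChange_tmul]
          simp [Algebra.smul_def]
      rw [heq]
      exact map_mem_extMax _ (idempotent_mem_extMax_algebraicClosure hg)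
    | zero => rw [map_zero]; exact zero_mem _
    | add x y _ _ hx hy => rw [map_add]; exact add_mem hx hy
    | smul c x _ hx =>
      rw [← IsScalarTower.algebraMap_smul Ω c x, map_smul]
      exact Subalgebra.smul_mem _ hx _
  rw [← E.apply_symm_apply z']
  generalize E.symm z' = w at hmem ⊢
  induction hmem using Submodule.span_induction with
  | mem x hx => exact key x (SepIdemLib.mem_idemTensor (k := Kb) hx)
  | zero => rw [map_zero]; exact zero_mem _
  | add x y _ _ hx hy => rw [map_add]; exact add_mem hx hy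
  | smul c x _ hx => rw [map_smul]; exact Subalgebra.smul_mem _ hx c

theorem max_baseChange (L : Type u) [Field L] [Algebra K L] :
    EtAlgD.maxWeaklyEtale L (L ⊗[K] A) = extMax K A L := by
  refine le_antisymm (fun z hz => mem_extMax_of_hasSep (mem_max_iff_hasSep.1 hz)) (extMax_le_iff.2 fun a ha => ?_)
  obtain ⟨f, hf, hfa⟩ := mem_max_iff_hasSep.1 ha
  refine mem_max_of_hasSep ⟨f.map (algebraMap K L), hf.map, ?_⟩
  rw [aeval_map_algebraMap, show (1 : L) ⊗ₜ[K] a = Algebra.TensorProduct.includeRight a from rfl,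
    aeval_algHom_apply, hfa, map_zero]

end Groth.Agent.WEtMax7
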